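import Groth.Prelude.Def_AlgSt
import Groth.Agent.Fib.Yoneda

/-!
# Gluing morphisms in a stack, stated on objects

For `a`, `b` over `U` and a covering sieve `R`, a compatible family of morphisms `a' ⟶ b` over `h` attached to the
lifts `a' ⟶ a` over the members `h` of `R` comes from a unique morphism `a ⟶ b` over the identity.
-/

set_option autoImplicit false
set_option linter.style.haveILetI false
set_option linter.unusedSectionVars false
set_option backward.isDefEq.respectTransparency false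
set_option backward.isDefEq.respectTransparency.types false

open CategoryTheory CategoryTheory.Functor

universe v₂ u₂ v u

namespace Groth.Agent.StkGlue

variable {C : Type u} [Category.{v} C] {𝒳 : BasedCategory.{v₂, u₂} C}

theorem exists_lift_at (h : FibCat.IsFibGrpd 𝒳.p) {a : 𝒳.obj} {U V : C} (ha : 𝒳.p.obj a = U)
    (f : V ⟶ U) : ∃ (a' : 𝒳.obj) (α : a' ⟶ a), 𝒳.p.IsHomLift f α := by
  subst ha
  exact h.exists_lift f

theorem existsUnique_fac (h : FibCat.IsFibGrpd 𝒳.p) {W V U : C} (f : V ⟶ U) (g : W ⟶ V)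
    {a b c : 𝒳.obj} (α : a ⟶ b) (γ : c ⟶ b) [𝒳.p.IsHomLift f α] [𝒳.p.IsHomLift (g ≫ f) γ] :
    ∃! m : c ⟶ a, 𝒳.p.IsHomLift g m ∧ m ≫ α = γ :=
  haveI := Fib.isStronglyCartesian_of_isFibGrpd 𝒳.p h f α
  IsStronglyCartesian.universal_property 𝒳.p f α g (g ≫ f) rfl γ

variable {U : C} {R : Sieve U}

theorem hom_ext (hg : FibCat.IsFibGrpd 𝒳.p) (hR : Stk.IsPrestackFor R 𝒳) {a b : 𝒳.obj}
    (f f' : a ⟶ b) (hf : 𝒳.p.IsHomLift (𝟙 U) f) (hf' : 𝒳.p.IsHomLift (𝟙 U) f')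
    (e : ∀ ⦃V : C⦄ (h : V ⟶ U), R h → ∃ (a' : 𝒳.obj) (α : a' ⟶ a),
      𝒳.p.IsHomLift h α ∧ α ≫ f = α ≫ f') : f = f' := by
  have hae : 𝒳.p.obj a = U := IsHomLift.domain_eq 𝒳.p (𝟙 U) f
  have hbe : 𝒳.p.obj b = U := IsHomLift.codomain_eq 𝒳.p (𝟙 U) f
  haveI := Fib.isFibered_of_isFibGrpd _ hg
  obtain ⟨Ga, -, ea, hea⟩ := Fib.exists_basedFunctor (𝒳 := 𝒳) (U := U) ⟨a, hae⟩
  obtain ⟨Gb, hGb, eb, heb⟩ := Fib.exists_basedFunctor (𝒳 := 𝒳) (U := U) ⟨b, hbe⟩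
  haveI : 𝒳.p.IsHomLift (𝟙 U) ea.hom := hea
  haveI : 𝒳.p.IsHomLift (𝟙 U) eb.hom := heb
  haveI := hf
  haveI := hf'
  obtain ⟨η, hη⟩ := Fib.exists_natTrans_app_id (G := Ga) (H := Gb) hGb (ea.hom ≫ f ≫ eb.inv)
  obtain ⟨η', hη'⟩ := Fib.exists_natTrans_app_id (G := Ga) (H := Gb) hGb (ea.hom ≫ f' ≫ eb.inv)
  haveI := hR.2
  have key : η = η' := by
    apply (Stk.resSieve R 𝒳).map_injective
    apply Fib.hom_ext'
    intro s
    have hs : R s.obj.hom := s.property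
    let t : Over U := s.obj
    change η.toNatTrans.app t = η'.toNatTrans.app t
    obtain ⟨a', α, hα, he⟩ := e t.hom hs
    haveI := hα
    haveI := Fib.map_toId_isHomLift Ga t
    haveI : 𝒳.p.IsHomLift t.hom (Ga.map (Fib.toId t) ≫ ea.hom) :=
      IsHomLift.comp_lift_id_right 𝒳.p t.hom (Ga.map (Fib.toId t)) ea.hom
    haveI : 𝒳.p.IsHomLift (𝟙 t.left ≫ t.hom) (Ga.map (Fib.toId t) ≫ ea.hom) := by
      rw [Category.id_comp]; infer_instance
    obtain ⟨i, ⟨-, hi⟩, -⟩ := existsUnique_fac hg t.hom (𝟙 t.left) α (Ga.map (Fib.toId t) ≫ ea.hom)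
    haveI : 𝒳.p.IsHomLift (𝟙 t.left) (η.toNatTrans.app t) := η.isHomLift' t
    haveI : 𝒳.p.IsHomLift (𝟙 t.left) (η'.toNatTrans.app t) := η'.isHomLift' t
    haveI := Fib.map_toId_isStronglyCartesian Gb hGb t
    refine IsStronglyCartesian.ext 𝒳.p t.hom (Gb.map (Fib.toId t)) (𝟙 t.left) ?_
    rw [← η.toNatTrans.naturality, ← η'.toNatTrans.naturality, hη, hη']
    rw [← Category.assoc _ ea.hom, ← Category.assoc _ ea.hom, ← hi, Category.assoc, Category.assoc,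
      ← Category.assoc α f, ← Category.assoc α f', he]
  have h1 := congrArg (fun x => x.toNatTrans.app (Over.mk (𝟙 U))) key
  change η.toNatTrans.app (Over.mk (𝟙 U)) = η'.toNatTrans.app (Over.mk (𝟙 U)) at h1
  rw [hη, hη'] at h1
  exact (cancel_mono eb.inv).mp ((cancel_epi ea.hom).mp h1)

theorem exists_glue (hg : FibCat.IsFibGrpd 𝒳.p) (hR : Stk.IsPrestackFor R 𝒳) {a b : 𝒳.obj}
    (hae : 𝒳.p.obj a = U) (hbe : 𝒳.p.obj b = U)
    (γ : ∀ ⦃V : C⦄ (h : V ⟶ U), R h → ∀ (a' : 𝒳.obj) (α : a' ⟶ a), 𝒳.p.IsHomLift h α → (a' ⟶ b))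
    (hγ : ∀ ⦃V : C⦄ (h : V ⟶ U) (hh : R h) (a' : 𝒳.obj) (α : a' ⟶ a) (hα : 𝒳.p.IsHomLift h α),
      𝒳.p.IsHomLift h (γ h hh a' α hα))
    (hnat : ∀ ⦃W V : C⦄ (g : W ⟶ V) (h : V ⟶ U) (hh : R h) (hgh : R (g ≫ h)) (a'' a' : 𝒳.obj)
      (k : a'' ⟶ a') (α : a' ⟶ a) (_ : 𝒳.p.IsHomLift g k) (hα : 𝒳.p.IsHomLift h α)
      (hkα : 𝒳.p.IsHomLift (g ≫ h) (k ≫ α)),
      γ (g ≫ h) hgh a'' (k ≫ α) hkα = k ≫ γ h hh a' α hα) :
    ∃ f : a ⟶ b, 𝒳.p.IsHomLift (𝟙 U) f ∧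
      ∀ ⦃V : C⦄ (h : V ⟶ U) (hh : R h) (a' : 𝒳.obj) (α : a' ⟶ a) (hα : 𝒳.p.IsHomLift h α),
        α ≫ f = γ h hh a' α hα := by
  have congr_γ : ∀ {V : C} {h h' : V ⟶ U} (_ : h = h') (hh : R h) (hh' : R h') (a' : 𝒳.obj)
      (α : a' ⟶ a) (hα : 𝒳.p.IsHomLift h α) (hα' : 𝒳.p.IsHomLift h' α),
      γ h hh a' α hα = γ h' hh' a' α hα' := by
    intro V h h' e hh hh' a' α hα hα'
    subst e
    rfl
  have congr_α : ∀ {V : C} {h : V ⟶ U} (hh : R h) {a' : 𝒳.obj} {α α' : a' ⟶ a} (_ : α = α')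
      (hα : 𝒳.p.IsHomLift h α) (hα' : 𝒳.p.IsHomLift h α'), γ h hh a' α hα = γ h hh a' α' hα' := by
    intro V h hh a' α α' e hα hα'
    subst e
    rfl
  haveI := Fib.isFibered_of_isFibGrpd _ hg
  obtain ⟨Ga, -, ea, hea⟩ := Fib.exists_basedFunctor (𝒳 := 𝒳) (U := U) ⟨a, hae⟩
  obtain ⟨Gb, hGb, eb, heb⟩ := Fib.exists_basedFunctor (𝒳 := 𝒳) (U := U) ⟨b, hbe⟩
  haveI : 𝒳.p.IsHomLift (𝟙 U) ea.hom := hea
  haveI : 𝒳.p.IsHomLift (𝟙 U) eb.hom := heb
  have hA : ∀ t : Over U, 𝒳.p.IsHomLift t.hom (Ga.map (Fib.toId t) ≫ ea.hom) := fun t =>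
    haveI := Fib.map_toId_isHomLift Ga t
    IsHomLift.comp_lift_id_right 𝒳.p t.hom (Ga.map (Fib.toId t)) ea.hom
  have hB : ∀ t : Over U, 𝒳.p.IsHomLift t.hom (Gb.map (Fib.toId t) ≫ eb.hom) := fun t =>
    haveI := Fib.map_toId_isHomLift Gb t
    IsHomLift.comp_lift_id_right 𝒳.p t.hom (Gb.map (Fib.toId t)) eb.hom
  have hex : ∀ s : (Stk.sieveCat R).obj, ∃! m : Ga.obj s.obj ⟶ Gb.obj s.obj,
      𝒳.p.IsHomLift (𝟙 s.obj.left) m ∧ m ≫ Gb.map (Fib.toId s.obj) ≫ eb.hom =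
        γ s.obj.hom s.property _ (Ga.map (Fib.toId s.obj) ≫ ea.hom) (hA s.obj) := by
    intro s
    haveI := hB s.obj
    haveI : 𝒳.p.IsHomLift (𝟙 s.obj.left ≫ s.obj.hom)
        (γ s.obj.hom s.property _ (Ga.map (Fib.toId s.obj) ≫ ea.hom) (hA s.obj)) := by
      rw [Category.id_comp]; exact hγ _ _ _ _ _
    exact existsUnique_fac hg s.obj.hom (𝟙 s.obj.left) (Gb.map (Fib.toId s.obj) ≫ eb.hom) _
  choose m hm _hu using hex
  let β : (Stk.resSieve R 𝒳).obj Ga ⟶ (Stk.resSieve R 𝒳).obj Gb :=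
    { toNatTrans :=
        { app := m
          naturality := fun s s' g => by
            change Ga.map g.hom ≫ m s' = m s ≫ Gb.map g.hom
            haveI := hB s'.obj
            haveI := (hm s).1
            haveI := (hm s').1
            haveI := Fib.isStronglyCartesian_of_isFibGrpd 𝒳.p hg s'.obj.hom
              (Gb.map (Fib.toId s'.obj) ≫ eb.hom)
            haveI : (FibCat.overCat U).p.IsHomLift g.hom.left g.hom :=
              IsHomLift.map (FibCat.overCat U).p g.hom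
            haveI hGa : 𝒳.p.IsHomLift g.hom.left (Ga.map g.hom) := BasedFunctor.preserves_isHomLift Ga _ _
            haveI hGb' : 𝒳.p.IsHomLift g.hom.left (Gb.map g.hom) := BasedFunctor.preserves_isHomLift Gb _ _
            haveI : 𝒳.p.IsHomLift g.hom.left (Ga.map g.hom ≫ m s') :=
              IsHomLift.comp_lift_id_right 𝒳.p g.hom.left (Ga.map g.hom) (m s')
            haveI : 𝒳.p.IsHomLift g.hom.left (m s ≫ Gb.map g.hom) :=
              IsHomLift.comp_lift_id_left 𝒳.p g.hom.left (Gb.map g.hom) (m s)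
            refine IsStronglyCartesian.ext 𝒳.p s'.obj.hom (Gb.map (Fib.toId s'.obj) ≫ eb.hom) g.hom.left ?_
            rw [Category.assoc, Category.assoc, (hm s').2, ← Category.assoc (Gb.map g.hom),
              ← CategoryTheory.Functor.map_comp, Fib.toId_natural, (hm s).2]
            have hw : g.hom.left ≫ s'.obj.hom = s.obj.hom := Over.w g.hom
            have hgh : R (g.hom.left ≫ s'.obj.hom) := hw.symm ▸ s.property
            haveI := hA s'.obj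
            have hkα : 𝒳.p.IsHomLift (g.hom.left ≫ s'.obj.hom)
                (Ga.map g.hom ≫ Ga.map (Fib.toId s'.obj) ≫ ea.hom) := inferInstance
            refine (hnat g.hom.left s'.obj.hom s'.property hgh _ _ (Ga.map g.hom) _ hGa _ hkα).symm.trans ?_
            have he : Ga.map g.hom ≫ Ga.map (Fib.toId s'.obj) ≫ ea.hom =
                Ga.map (Fib.toId s.obj) ≫ ea.hom := by
              rw [← Category.assoc, ← CategoryTheory.Functor.map_comp, Fib.toId_natural]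
            exact (congr_α hgh he hkα (by rw [hw]; exact hA s.obj)).trans
              (congr_γ hw hgh s.property _ _ _ _) }
      isHomLift' := fun s => (hm s).1 }
  haveI := hR.1
  obtain ⟨η, hη⟩ := (Stk.resSieve R 𝒳).map_surjective β
  haveI : 𝒳.p.IsHomLift (𝟙 U) (η.toNatTrans.app (Over.mk (𝟙 U))) := η.isHomLift' (Over.mk (𝟙 U))
  refine ⟨ea.inv ≫ η.toNatTrans.app (Over.mk (𝟙 U)) ≫ eb.hom, inferInstance, fun V h hh a' α hα => ?_⟩
  let s : (Stk.sieveCat R).obj := ⟨Over.mk h, hh⟩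
  haveI : 𝒳.p.IsHomLift h (Ga.map (Fib.toId (Over.mk h)) ≫ ea.hom) := hA (Over.mk h)
  haveI := hα
  haveI : 𝒳.p.IsHomLift (𝟙 V ≫ h) α := by rw [Category.id_comp]; exact hα
  obtain ⟨i, ⟨hi, hi'⟩, -⟩ :=
    existsUnique_fac hg h (𝟙 V) (Ga.map (Fib.toId (Over.mk h)) ≫ ea.hom) α
  have hRi : R (𝟙 V ≫ h) := (Category.id_comp h).symm ▸ hh
  have hkα : 𝒳.p.IsHomLift (𝟙 V ≫ h) (i ≫ Ga.map (Fib.toId (Over.mk h)) ≫ ea.hom) := hi'.symm ▸ this
  have hn := hnat (𝟙 V) h hh hRi _ _ i _ hi (hA (Over.mk h)) hkα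
  have hγα : γ h hh a' α hα = i ≫ γ h hh _ (Ga.map (Fib.toId (Over.mk h)) ≫ ea.hom) (hA (Over.mk h)) :=
    ((congr_γ (Category.id_comp h).symm hh hRi _ _ hα ‹_›).trans (congr_α hRi hi'.symm _ hkα)).trans hn
  rw [hγα]
  conv_lhs => rw [← hi']
  simp only [Category.assoc, Iso.hom_inv_id_assoc]
  refine congrArg (i ≫ ·) ?_
  have hηs : η.toNatTrans.app (Over.mk h) = m s := congrArg (fun x => x.toNatTrans.app s) hη
  refine Eq.trans ?_ (hm s).2
  rw [← hηs, ← Category.assoc, η.toNatTrans.naturality, Category.assoc]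

end Groth.Agent.StkGlue
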